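import Groth.Agent.S17650
import Groth.Agent.Lib.Euler
import Groth.Agent.Lib.RegEpiGen
import Groth.Agent.CurveDual.Coherent
import Groth.Agent.CurveDual.Dual
import Groth.Agent.H23.PicMul

/-!
Modules generated by sections with vanishing twisted first cohomology on a curve of genus zero.
-/

set_option autoImplicit false
set_option linter.style.haveILetI false
set_option linter.unusedSectionVars false
set_option backward.isDefEq.respectTransparency false
set_option backward.isDefEq.respectTransparency.types false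
set_option maxHeartbeats 1000000

universe u

open CategoryTheory CategoryTheory.Limits AlgebraicGeometry TopologicalSpace Opposite
open Groth.Agent.PnCoh.Finite (mapLin)

noncomputable section

namespace Groth.Agent.DefAmple18

open Groth.Agent

/-- Generated modules have their maps detected by sections. -/
theorem gg_elim {X : Scheme.{u}} {F : X.Modules} (h : Curv2.IsGloballyGenerated F) : Euler.GG F := by
  obtain ⟨ι, p, hp⟩ := h
  intro T g hg
  rw [← cancel_epi p, comp_zero]
  refine Sigma.hom_ext (f := fun _ : ι => SheafOfModules.unit X.ringCatSheaf) _ _ fun i => ?_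
  rw [comp_zero, ← Category.assoc]
  exact hg (Sigma.ι (fun _ : ι => Coh.structureModule X) i ≫ p)

theorem gg_sigma {X : Scheme.{u}} {ι : Type} {M : X.Modules} (h : Euler.GG M) [HasCoproduct fun _ : ι => M] :
    Euler.GG (∐ fun _ : ι => M) := fun T g hg => Sigma.hom_ext (f := fun _ : ι => M) _ _ fun i => by
  rw [comp_zero]
  exact h T _ fun s => by rw [← Category.assoc]; exact hg _

theorem gg_of_epi {X : Scheme.{u}} {M N : X.Modules} (q : M ⟶ N) [Epi q] (h : Euler.GG M) : Euler.GG N :=
  fun T g hg => by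
    rw [← cancel_epi q, comp_zero]
    exact h T _ fun s => by rw [← Category.assoc]; exact hg _

/-- Supports of twists. -/
theorem mem_support_of_iso_ten {X : Scheme.{u}} {Q ω R : X.Modules} (e : R ≅ (SheafHomX.ten ω).obj Q) {x : X}
    (hx : x ∈ CohB1.support R) : x ∈ CohB1.support Q := fun hs => hx (by
  haveI : Subsingleton ((DerSch.stalkFunctor X x).obj Q : Type u) := hs
  haveI : Subsingleton ((DerSch.stalkFunctor X x).obj ((SheafHomX.ten ω).obj Q) : Type u) :=
    @Equiv.subsingleton _ _ (KFlatLib.stalkTensorIso x Q ω).toLinearEquiv.symm.toEquiv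
      (inferInstanceAs (Subsingleton (TensorProduct (X.presheaf.stalk x)
        ((DerSch.stalkFunctor X x).obj Q) ((DerSch.stalkFunctor X x).obj ω))))
  exact ((DerSch.stalkFunctor X x).mapIso e).toLinearEquiv.toEquiv.subsingleton)

/-- Finite sums of a coherent module are quasi-coherent. -/
theorem isQCoh_sum {X : Scheme.{u}} [IsLocallyNoetherian X] (m : ℕ) {M : X.Modules} (hM : Coh.IsCoh M) :
    Coh.IsQCoh (∐ fun _ : Fin m => M) :=
  haveI := Abelian.hasFiniteBiproducts (C := X.Modules)
  let e : (∐ fun _ : ULift.{u} (Fin m) => M) ≅ ∐ fun _ : Fin m => M :=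
    Sigma.whiskerEquiv (f := fun _ : ULift.{u} (Fin m) => M) (g := fun _ : Fin m => M) Equiv.ulift (fun _ => Iso.refl M)
  (QCoh.isQCoh_iff_iso e).1 (QCoh.isQCoh_colimit (Discrete.functor fun _ : ULift.{u} (Fin m) => M) fun _ => hM.1)

theorem isCoh_ten {X : Scheme.{u}} [IsLocallyNoetherian X] {P ω : X.Modules} (hP : Coh.IsCoh P) (hω : Coh.IsCoh ω) :
    Coh.IsCoh ((SheafHomX.ten ω).obj P) :=
  ParShLib.isCoh_tensorMod hP hω

variable (k : Type u) [Field k] {B : Scheme.{u}} [B.Over (Spec (CommRingCat.of k))]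
  [IsProper (B ↘ Spec (CommRingCat.of k))] (hdim : topologicalKrullDim B ≤ 1)

include k hdim in
/-- `H¹` is right exact in dimension one. -/
theorem surjective_H1_of_epi {M N : B.Modules} (q : M ⟶ N) [Epi q] (hM : Coh.IsQCoh M) (hN : Coh.IsQCoh N) :
    Function.Surjective (mapLin k q 1) := by
  haveI : IsNoetherian B := CurveCohLib.isNoetherian_of_proper (k := k)
  haveI : B.IsSeparated := ⟨by
    rw [← terminal.comp_from (B ↘ Spec (CommRingCat.of k))]
    infer_instance⟩
  let S := ShortComplex.mk (kernel.ι q) q (kernel.condition q)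
  haveI : Mono S.f := inferInstanceAs (Mono (kernel.ι q))
  haveI : Epi S.g := ‹Epi q›
  have hS : S.ShortExact := { exact := ShortComplex.exact_kernel q }
  haveI := Snapper.subsingleton_HH_of_dim_le (X := B) (d := 1) hdim (QCoh.isQCoh_kernel hM hN q) one_lt_two
  exact fun x => (CurveCohLib.ker_deltaLin k hS 1).le (LinearMap.mem_ker.2 (Subsingleton.elim _ 0))

include k hdim in
theorem subsingleton_H1_of_epi {M N : B.Modules} (q : M ⟶ N) [Epi q] (hM : Coh.IsQCoh M) (hN : Coh.IsQCoh N)
    (h : Subsingleton (Coh.HH B M 1)) : Subsingleton (Coh.HH B N 1) :=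
  (surjective_H1_of_epi (k := k) hdim q hM hN).subsingleton

include k hdim in
/-- A map with finite cokernel passes on vanishing of first cohomology. -/
theorem subsingleton_H1_of_finite_cokernel {M N : B.Modules} (φ : M ⟶ N) (hM : Coh.IsCoh M) (hN : Coh.IsCoh N)
    (ht : ∀ x ∈ CohB1.support (cokernel φ), IsClosed ({x} : Set B)) (h : Subsingleton (Coh.HH B M 1)) :
    Subsingleton (Coh.HH B N 1) := by
  haveI := CurveCohLib.isNoetherian_of_proper (k := k) (X := B)
  let I := Abelian.image φ
  have hI : Coh.IsCoh I := QCoh.isCoh_kernel hN (QCoh.isCoh_cokernel hM.1 hN φ) _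
  haveI := subsingleton_H1_of_epi (k := k) hdim (Abelian.factorThruImage φ) hM.1 hI.1 h
  let S := ShortComplex.mk (Abelian.image.ι φ) (cokernel.π φ) (kernel.condition _)
  haveI : Mono S.f := inferInstanceAs (Mono (Abelian.image.ι φ))
  haveI : Epi S.g := inferInstanceAs (Epi (cokernel.π φ))
  have hS : S.ShortExact := { exact := ShortComplex.exact_kernel _ }
  haveI := (Euler.good_of_support (QCoh.isCoh_cokernel hM.1 hN φ) fun x hx => (ht x hx).closure_eq).1 1 le_rfl
  refine subsingleton_of_forall_eq 0 fun y => ?_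
  obtain ⟨z, hz⟩ : ∃ z : Coh.HH B I 1, mapLin k S.f 1 z = y := (CurveCohLib.ker_mapLin_g k hS 1).le (LinearMap.mem_ker.2
    (Subsingleton.elim (α := Coh.HH B (cokernel φ) 1) _ 0))
  rw [← hz, Subsingleton.elim (α := Coh.HH B I 1) z 0, map_zero]

include k hdim in
/-- A map with finite cokernel out of a generated module with no first cohomology. -/
theorem gg_of_finite_cokernel {M N : B.Modules} (φ : M ⟶ N) (hM : Coh.IsCoh M) (hN : Coh.IsCoh N)
    (ht : ∀ x ∈ CohB1.support (cokernel φ), IsClosed ({x} : Set B)) (h : Subsingleton (Coh.HH B M 1))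
    (hgg : Euler.GG M) : Curv2.IsGloballyGenerated N := by
  haveI := CurveCohLib.isNoetherian_of_proper (k := k) (X := B)
  haveI : HasExt.{u} B.Modules := IsGrothendieckAbelian.hasExt _
  let I := Abelian.image φ
  have hI : Coh.IsCoh I := QCoh.isCoh_kernel hN (QCoh.isCoh_cokernel hM.1 hN φ) _
  haveI := subsingleton_H1_of_epi (k := k) hdim (Abelian.factorThruImage φ) hM.1 hI.1 h
  let S := ShortComplex.mk (Abelian.image.ι φ) (cokernel.π φ) (kernel.condition _)
  haveI : Mono S.f := inferInstanceAs (Mono (Abelian.image.ι φ))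
  haveI : Epi S.g := inferInstanceAs (Epi (cokernel.π φ))
  have hS : S.ShortExact := { exact := ShortComplex.exact_kernel _ }
  have hQ := Euler.good_of_support (QCoh.isCoh_cokernel hM.1 hN φ) fun x hx => (ht x hx).closure_eq
  refine Euler.GG.isGloballyGenerated fun T g hg => ?_
  have h1 : φ ≫ g = 0 := hgg T _ fun s => by rw [← Category.assoc]; exact hg _
  rw [← cokernel.π_desc φ g h1, hQ.2 T (cokernel.desc φ g h1) fun s => ?_, comp_zero]
  obtain ⟨y, hy⟩ := (CurveCohLib.ker_deltaLin k hS 0).le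
    (LinearMap.mem_ker.2 (Subsingleton.elim (α := Coh.HH B I 1)
      (PnCoh.Finite.deltaLin k hS 0 (mapLin k s 0 CurveDual.oneH)) 0))
  obtain ⟨s', hs'⟩ := (CurveDual.bijective_extH₀ N).2 y
  have h2 : s' ≫ cokernel.π φ = s := (CurveDual.bijective_extH₀ _).1 (by
    show Sheaf.H.map ((QCoh.toAbFunctor B).map (s' ≫ cokernel.π φ)) 0 CurveDual.oneH = _
    rw [Functor.map_comp, Sheaf.H.map_comp_apply]
    exact (congrArg _ hs').trans hy)
  rw [← h2, Category.assoc, cokernel.π_desc]
  exact hg s'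

include k hdim in
/-- Finite cokernels preserve deformation ampleness. -/
theorem defAmple_of_finite_cokernel {ω : B.Modules}
    (hω : Coh.IsCoh ω) {E₁ E₂ : B.Modules} (h₁ : FlatMod.IsFinLocFree E₁) (h₂ : FlatMod.IsFinLocFree E₂)
    (φ : E₁ ⟶ E₂) (ht : ∀ x ∈ CohB1.support (cokernel φ), IsClosed ({x} : Set B))
    (hH : Subsingleton (Coh.HH B E₁ 1)) (hgg : Curv2.IsGloballyGenerated E₁)
    (hw : Subsingleton (Coh.HH B (CohB1.tensorMod E₁ ω) 1)) :
    Curv2.IsGloballyGenerated E₂ ∧ Subsingleton (Coh.HH B (CohB1.tensorMod E₂ ω) 1) := by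
  haveI := CurveCohLib.isNoetherian_of_proper (k := k) (X := B)
  refine ⟨gg_of_finite_cokernel (k := k) hdim φ (CurveDeg.isCoh_of_isFinLocFree h₁)
    (CurveDeg.isCoh_of_isFinLocFree h₂) ht hH (gg_elim hgg), ?_⟩
  haveI := (SheafHomX.adj ω).isLeftAdjoint
  refine subsingleton_H1_of_finite_cokernel (k := k) hdim ((SheafHomX.ten ω).map φ)
    (CurveTensor.isCoh_tensor h₁ hω) (CurveTensor.isCoh_tensor h₂ hω) (fun x hx => ht x ?_) hw
  exact mem_support_of_iso_ten (PreservesCokernel.iso (SheafHomX.ten ω) φ).symm hx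

include k hdim in
/-- Tensor powers. -/
theorem defAmple_pow {ω : B.Modules} (hω : Coh.IsCoh ω) {E : B.Modules} (hE : FlatMod.IsFinLocFree E)
    (hgg : Curv2.IsGloballyGenerated E) (hw : Subsingleton (Coh.HH B (CohB1.tensorMod E ω) 1)) :
    ∀ n : ℕ, 1 ≤ n → Curv2.IsGloballyGenerated (CohB1.tensorPow E n) ∧
      Subsingleton (Coh.HH B (CohB1.tensorMod (CohB1.tensorPow E n) ω) 1) ∧
      Coh.IsCoh (CohB1.tensorPow E n) := by
  haveI : IsNoetherian B := CurveCohLib.isNoetherian_of_proper (k := k)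
  intro n hn
  induction n, hn using Nat.le_induction with
  | base =>
    letI := H23.PicMul.clMonoid B
    obtain ⟨e⟩ : Nonempty (E ≅ CohB1.tensorPow E 1) := H23.PicMul.cl_eq_iff.1 (by
      rw [H23.PicMul.cl_tensorPow, pow_one])
    exact ⟨AmpleX.isGloballyGenerated_of_iso e hgg,
      @Equiv.subsingleton _ _ (CurveCohLib.hhEquiv (k := k) ((SheafHomX.ten ω).mapIso e) 1).toEquiv.symm hw,
      RefX.isCoh_of_iso e (CurveDeg.isCoh_of_isFinLocFree hE)⟩
  | succ n hn ih =>
    obtain ⟨hg, hv, hc⟩ := ih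
    obtain ⟨m, q, hq⟩ := S17650.exists_epi_free k hE hgg
    haveI := hq
    let P := CohB1.tensorPow E n
    obtain ⟨c⟩ : Nonempty ((SheafHomX.ten P).obj E ≅ CohB1.tensorPow E (n + 1)) := by
      letI := H23.PicMul.clMonoid B
      refine H23.PicMul.cl_eq_iff.1 ?_
      show PicF.cl (CohB1.tensorMod E P) = _
      rw [H23.PicMul.cl_tensor, H23.PicMul.cl_tensorPow, H23.PicMul.cl_tensorPow, pow_succ']
    haveI := (SheafHomX.adj P).isLeftAdjoint
    haveI := (SheafHomX.adj ω).isLeftAdjoint
    let a : (∐ fun _ : Fin m => P) ≅ (SheafHomX.ten P).obj (∐ fun _ : Fin m => Coh.structureModule B) :=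
      Sigma.mapIso (fun _ => (SheafHomX.tenUnitIso P).symm) ≪≫
        (PreservesCoproduct.iso (SheafHomX.ten P) (fun _ : Fin m => Coh.structureModule B)).symm
    let π : (∐ fun _ : Fin m => P) ⟶ CohB1.tensorPow E (n + 1) := a.hom ≫ (SheafHomX.ten P).map q ≫ c.hom
    haveI : Epi ((SheafHomX.ten P).map q) := inferInstance
    haveI : Epi π := epi_comp _ _
    have hc' : Coh.IsCoh (CohB1.tensorPow E (n + 1)) := RefX.isCoh_of_iso c (CurveTensor.isCoh_tensor hE hc)
    refine ⟨(gg_of_epi π (gg_sigma (gg_elim hg))).isGloballyGenerated, ?_, hc'⟩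
    let π' : (∐ fun _ : Fin m => (SheafHomX.ten ω).obj P) ⟶ (SheafHomX.ten ω).obj (CohB1.tensorPow E (n + 1)) :=
      (PreservesCoproduct.iso (SheafHomX.ten ω) (fun _ : Fin m => P)).inv ≫ (SheafHomX.ten ω).map π
    haveI : Epi π' := epi_comp _ _
    refine subsingleton_H1_of_epi (k := k) hdim π'
      (isQCoh_sum m (isCoh_ten (P := P) hc hω)) (isCoh_ten (P := CohB1.tensorPow E (n + 1)) hc' hω).1 ?_
    exact RegEpi.subsingleton_HH_sigma (fun _ : Fin m => (SheafHomX.ten ω).obj P) 1 fun _ => hv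

end Groth.Agent.DefAmple18
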